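import Cfsg.Agent.Spor.MatQ

set_option autoImplicit false
set_option maxRecDepth 100000000
set_option Elab.async false
noncomputable section

namespace Cfsg.Agent.Spor.U35M

def A : Ar := ⟨5, 8, 3, 2, 1028⟩
def TT : List (List Nat) := [[0x20202030000, 0x301030000, 0x20100010301, 0x40301000302, 0x303040300, 0x30001020202],
  [0x20202030000, 0x301030000, 0x20100010301, 0x40301000302, 0x303040300, 0x30001020202],
  [0x30402020002, 0x10200030200, 0x10200020300, 0x10402000202, 0x4010201, 0x2010403],
  [0x30402020002, 0x10200030200, 0x10200020300, 0x10402000202, 0x4010201, 0x2010403],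
  [0x30403010001, 0x10203020100, 0x30300000203, 0x200000103, 0x302000201, 0x30003030403],
  [0x30403010001, 0x10203020100, 0x30300000203, 0x200000103, 0x302000201, 0x30003030403],
  [0x40100030003, 0x20103000300, 0x30200000003, 0x40200000300, 0x102040102, 0x10002030104],
  [0x40100030003, 0x20103000300, 0x30200000003, 0x40200000300, 0x102040102, 0x10002030104],
  [0x301010001, 0x30000040100, 0x10000020400, 0x40402000101, 0x104040003, 0x10000010300],
  [0x301010001, 0x30000040100, 0x10000020400, 0x40402000101, 0x104040003, 0x10000010300],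
  [0x20203040002, 0x301020200, 0x40100000201, 0x20100000403, 0x201020300, 0x20001040202],
  [0x20203040002, 0x301020200, 0x40100000201, 0x20100000403, 0x201020300, 0x20001040202]]
def UU : List (List Nat) := [[0x1, 0x100, 0x10004, 0x1000400, 0x100000000, 0x10000000000],
  [0x10300010001, 0x20401000100, 0x200010000, 0x20001000000, 0x100000000, 0x10000000000],
  [0x4020001, 0x3010100, 0x10000, 0x1000000, 0x100000000, 0x10000000000],
  [0x1, 0x100, 0x10001, 0x1000100, 0x100000000, 0x10000000000],
  [0x2020001, 0x30100, 0x10000, 0x1000000, 0x100000000, 0x10000000000],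
  [0x1, 0x100, 0x10102, 0x1000104, 0x100000000, 0x10000000000],
  [0x1, 0x100, 0x100010000, 0x10001000000, 0x100000000, 0x10000000000],
  [0x1, 0x100, 0x10000, 0x1000000, 0x100010000, 0x10001000000],
  [0x1, 0x100, 0x200010000, 0x20001000000, 0x100000000, 0x10000000000],
  [0x1, 0x100, 0x10000, 0x1000000, 0x100030000, 0x10003000000],
  [0x1, 0x100, 0x10004, 0x1000400, 0x104020003, 0x10003010300],
  [0x1, 0x100, 0x10000, 0x1000000, 0x100040000, 0x10004000000],
  [0x40200030001, 0x30103000100, 0x100010000, 0x10001000000, 0x100000000, 0x10000000000],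
  [0x20001, 0x2000100, 0x10000, 0x1000000, 0x100000000, 0x10000000000],
  [0x10001, 0x1000100, 0x10000, 0x1000000, 0x100000000, 0x10000000000],
  [0x1, 0x100, 0x10002, 0x1000200, 0x100000000, 0x10000000000],
  [0x1, 0x100, 0x20200010000, 0x301000000, 0x100000000, 0x10000000000],
  [0x1, 0x100, 0x40200010000, 0x30101000000, 0x100000000, 0x10000000000],
  [0x1, 0x100, 0x10000, 0x1000000, 0x103020000, 0x10004020000],
  [0x1, 0x100, 0x10400, 0x1000101, 0x103010103, 0x10003020204],
  [0x30403010001, 0x10203020100, 0x40400010000, 0x101000000, 0x100000000, 0x10000000000],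
  [0x1, 0x100, 0x10203, 0x1000103, 0x101000201, 0x10004040403],
  [0x30200010001, 0x40201000100, 0x20300010000, 0x10301000000, 0x100000000, 0x10000000000],
  [0x1, 0x100, 0x10003, 0x1000300, 0x100000000, 0x10000000000],
  [0x1, 0x100, 0x10001, 0x1000100, 0x103010204, 0x10003020203],
  [0x301010001, 0x30000040100, 0x40000010000, 0x10101000000, 0x100000000, 0x10000000000],
  [0x1, 0x100, 0x10400, 0x1000101, 0x101010003, 0x10000040300],
  [0x10104020001, 0x403010100, 0x30200010000, 0x40201000000, 0x100000000, 0x10000000000],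
  [0x1, 0x100, 0x10000, 0x1000000, 0x100020000, 0x10002000000],
  [0x1, 0x100, 0x10103, 0x1000204, 0x102040400, 0x10002030101]]
def UW : List (List Nat) := [[0, 1, 2, 3, 4, 5, 6, 7, 8, 9, 10], [11, 12, 13, 3, 14, 15, 16, 7, 17, 18, 19], [20, 6, 7, 8, 9, 21], [22, 14, 3, 13, 23, 24], [25, 26], [27, 13, 3, 14, 15, 8, 7, 6, 28, 29]]

end Cfsg.Agent.Spor.U35M
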