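import Cfsg.Agent.Spor.U35M.C0
import Cfsg.Agent.Spor.U35a.Grp

set_option autoImplicit false
set_option maxRecDepth 100000000
set_option Elab.async false

namespace Cfsg.Agent.Spor.U35M

theorem rels : AllP (fun w => A.isS TT w = true) (Ctx.sqRL 6 U35a.RL) :=
  show AllP (fun w => A.isS TT w = true) [[0, 0], [2, 2], [4, 4], [6, 6], [8, 8], [10, 10], [6, 8, 4, 8, 6, 4], [6, 2, 4, 6, 4, 2], [8, 6, 2, 8, 6, 8, 2, 6, 8, 2], [4, 2, 4, 2, 4, 2], [8, 2, 8, 2, 8, 2], [6, 4, 6, 4, 0], [10, 8, 10, 8], [2, 0, 2, 0], [6, 8, 0, 8, 6, 0], [10, 6, 10, 6, 10, 6], [10, 2, 10, 2, 10, 2], [8, 4, 10, 0, 10, 0, 10, 8, 4], [4, 2, 10, 2, 4, 6, 10, 4, 10, 4, 2, 0, 10]] from AllP.cons r1 (AllP.cons r2 (AllP.cons r3 (AllP.cons r4 (AllP.cons r5 (AllP.cons r6 (AllP.cons r7 (AllP.cons r8 (AllP.cons r9 (AllP.cons r10 (AllP.cons r11 (AllP.cons r12 (AllP.cons r13 (AllP.cons r14 (AllP.cons r15 (AllP.cons r16 (AllP.cons r17 (AllP.cons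 r18 (AllP.cons r19 (AllP.nil)))))))))))))))))))

theorem iso {F : Type} [Field F] [Fintype F] (hF : Fintype.card F = 25) :
    Nonempty (U35a.P ≃* PSU 3 F 5) := by
  obtain ⟨ω, hω⟩ := exists_omega (F := F) (by rw [hF]; decide)
  have hp : ((5 : ℕ) : F) = 0 := cast_eq_zero_of_card (k := 2) hF
  let X : Ctx A F (Fin 3) :=
    Ctx.two A (Equiv.refl _) (by decide +kernel) hp ω rfl (by
      rw [show dig A.B A.w 0 = 4 by decide +kernel, show dig A.B A.w 1 = 4 by decide +kernel]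
      push_cast at hp ⊢
      linear_combination hω - (1 + ω) * hp)
  have hs : X.ω ^ 5 = X.decR 1028 := by
    rw [X.decR_two rfl, show dig A.B 1028 0 = 4 by decide +kernel, show dig A.B 1028 1 = 4 by decide +kernel]
    show ω ^ 5 = _ + _ * ω
    push_cast at hp ⊢
    linear_combination (ω ^ 3 - ω ^ 2 + 1) * hω - (1 + ω) * hp
  obtain ⟨σ, hσ⟩ := Class.exists_UF (q := 5) hF
  have hc := Ctx.codA_gen gensOk (Ctx.exists_SU (X := X) hσ.eq rfl hs gensOk detOk uniOk)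
  exact iso_of_simple' U35a.bound (by norm_num) U35a.cert.pres (hc.presQ (suToMat_inj 3 5) rels)
    U35a.lbP U35a.simpleP (hc.neQ (a := 2) (b := 4) (by decide) ne)
    (card_PSU_eq (q := 5) hF (by decide +kernel))

end Cfsg.Agent.Spor.U35M
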